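import Cfsg.Agent.Lib.Recog.SporBound.Sound
import Cfsg.Agent.Lib.Recog.SporBound.McLCentU.Tree0
import Cfsg.Agent.Lib.Recog.SporBound.McLCentU.Tree1
import Cfsg.Agent.Lib.Recog.SporBound.McLCentU.Tree2

set_option autoImplicit false
set_option maxRecDepth 20000

/-! Generated closure certificate: U4(3) on the cosets of C(t) in McL (owner: helper25). -/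

namespace CfsgLib.Recog.SporBound.McLCentU
open CfsgLib.Recog.SporBound

noncomputable def factTree : Q (ℕ) := (.node (.node ft7 ft15 ft23 ft30) (.node ft38 ft46 ft54 ft61) (.node ft69 ft77 ft85 ft92) (.node ft100 ft108 ft116 ft123))
noncomputable def nodeTree : Q (ℕ) := (.node ct6 ct13 ct20 ct26)
noncomputable def stepTree : Q (List ℕ) := (.node (.node st10 st20 st30 st40) (.node st51 st61 st71 st81) (.node st92 st102 st112 st122) (.node st133 st143 st153 st163))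
noncomputable def finalTree : Q (List ℕ) := (.node (.node et12 et24 et36 et48) (.node et61 et73 et85 et97) (.node et109 et121 et133 et145) (.node et157 et169 et181 et193))

/-- The certificate. -/
noncomputable def cert : Cert where
  n := 2835
  nd := 4315
  nf := 13740
  kl := [0, 2, 4, 5]
  facts := factTree
  cn := nodeTree
  steps := stepTree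
  finals := finalTree
  rels := [[0, 0], [1, 1], [2, 2], [3, 3], [4, 4], [5, 5], [6, 6], [7, 7], [8, 8], [0, 8, 0, 8], [1, 5, 1, 5], [1, 8, 1, 8], [2, 6, 2, 6], [2, 7, 2, 7], [4, 8, 4, 8], [2, 6, 7, 6, 7], [0, 1, 0, 7, 1, 7], [0, 5, 0, 5, 0, 5], [0, 7, 0, 7, 0, 7], [1, 4, 1, 4, 1, 4], [1, 5, 8, 1, 8, 5], [1, 6, 1, 6, 1, 6], [2, 3, 2, 3, 2, 3], [2, 3, 8, 2, 3, 8], [2, 4, 2, 4, 2, 4], [2, 5, 2, 5, 2, 5], [2, 8, 2, 8, 2, 8], [3, 4, 3, 4, 3, 4], [3, 8, 3, 8, 3, 8], [6, 8, 6, 8, 6, 8], [0, 1, 0, 1, 4, 0, 4], [0, 1, 0, 1, 0, 1, 0, 1], [0, 1, 0, 1, 7, 1, 7, 1], [0, 1, 0, 2, 7, 2, 1, 7], [0, 1, 0, 3, 0, 1, 0, 3], [0, 1, 0, 3, 7, 1, 7, 3], [0, 1, 0, 7, 5, 1, 5, 7], [0, 1, 0, 7, 8, 1, 8, 7], [0, 1, 0,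 8, 7, 1, 7, 8], [0, 1, 2, 6, 0, 2, 6, 1], [0, 1, 2, 6, 0, 6, 2, 1], [0, 1, 4, 1, 0, 1, 4, 1], [0, 1, 4, 1, 0, 4, 1, 4], [0, 1, 5, 1, 0, 5, 0, 5], [0, 1, 6, 2, 0, 2, 6, 1], [0, 1, 7, 0, 1, 7, 0, 7], [0, 2, 0, 2, 0, 2, 0, 2], [0, 2, 0, 6, 0, 2, 0, 6], [0, 2, 4, 0, 3, 2, 4, 3], [0, 2, 4, 2, 0, 2, 4, 2], [0, 2, 4, 2, 0, 4, 2, 4], [0, 2, 7, 2, 0, 7, 0, 7], [0, 2, 8, 2, 8, 2, 0, 8], [0, 3, 0, 3, 0, 3, 0, 3], [0, 3, 8, 3, 8, 3, 0, 8], [0, 4, 0, 4, 0, 4, 0, 4], [0, 4, 2, 4, 0, 4, 2, 4], [0, 4, 6, 4, 0, 4, 6, 4], [0, 5, 0, 5, 8, 0, 8, 5], [0, 5, 1, 5, 0, 7, 1, 7], [0, 6, 0, 6, 0, 6, 0, 6], [0, 6, 3, 6, 0, 6, 3, 6], [0, 6, 8, 6, 8, 6, 0, 8], [0, 7, 0, 7, 8, 0, 8, 7], [0, 7, 1, 7, 0, 8, 1, 8], [1, 2,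 1, 2, 1, 2, 1, 2], [1, 2, 1, 7, 1, 2, 1, 7], [1, 2, 4, 1, 3, 4, 6, 4], [1, 2, 4, 6, 3, 6, 4, 2], [1, 2, 5, 2, 5, 2, 1, 5], [1, 2, 6, 2, 1, 6, 1, 6], [1, 2, 8, 2, 8, 2, 1, 8], [1, 3, 1, 3, 1, 3, 1, 3], [1, 3, 8, 3, 8, 3, 1, 8], [1, 4, 1, 4, 1, 8, 4, 8], [1, 5, 7, 8, 7, 8, 5, 8], [1, 5, 8, 5, 1, 5, 8, 5], [1, 5, 8, 5, 7, 8, 7, 8], [1, 5, 8, 5, 8, 7, 8, 7], [1, 5, 8, 7, 8, 7, 5, 8], [1, 6, 1, 6, 8, 1, 8, 6], [1, 6, 8, 6, 8, 6, 1, 8], [1, 7, 3, 7, 1, 7, 3, 7], [1, 7, 8, 7, 1, 7, 8, 7], [1, 7, 8, 7, 5, 8, 5, 8], [2, 3, 2, 3, 6, 2, 6, 3], [2, 3, 2, 3, 7, 2, 7, 3], [2, 3, 2, 3, 8, 3, 2, 8], [2, 3, 8, 6, 2, 6, 3, 8], [2, 3, 8, 7, 2, 7, 3, 8], [2, 4, 2, 4, 2, 8, 4, 8], [2, 4, 2, 4, 6, 2, 6, 4], [2,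 4, 8, 4, 2, 8, 2, 8], [2, 5, 2, 5, 7, 2, 7, 5], [2, 6, 8, 2, 8, 2, 8, 6], [3, 4, 3, 4, 3, 8, 4, 8], [3, 4, 8, 4, 3, 8, 3, 8], [3, 5, 3, 7, 3, 5, 3, 7], [4, 6, 4, 6, 4, 6, 4, 6], [4, 6, 8, 6, 8, 6, 4, 8], [5, 7, 8, 7, 5, 7, 8, 7], [6, 7, 6, 7, 6, 7, 6, 7], [7, 8, 7, 8, 7, 8, 7, 8], [0, 1, 0, 1, 2, 4, 0, 4, 2], [0, 1, 0, 1, 4, 0, 8, 4, 8], [0, 1, 0, 1, 4, 8, 0, 8, 4], [0, 1, 0, 1, 5, 0, 1, 0, 5], [0, 1, 0, 1, 5, 7, 1, 7, 5], [0, 1, 0, 1, 6, 4, 0, 4, 6], [0, 1, 0, 1, 8, 4, 8, 0, 4], [0, 1, 0, 2, 6, 7, 6, 1, 7], [0, 1, 0, 3, 1, 4, 0, 4, 3], [0, 1, 0, 4, 0, 4, 8, 1, 8], [0, 1, 0, 5, 1, 7, 1, 7, 5], [0, 1, 0, 6, 2, 7, 6, 1, 7], [0, 1, 0, 6, 7, 2, 6, 1, 7], [0, 1, 0, 6, 7, 6, 2, 1, 7], [0, 1, 2, 0,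 2, 3, 0, 1, 3], [0, 1, 2, 1, 7, 0, 5, 3, 5], [0, 1, 2, 4, 3, 2, 4, 3, 1], [0, 1, 2, 6, 0, 7, 6, 7, 1], [0, 1, 2, 7, 0, 1, 5, 3, 5], [0, 1, 2, 7, 0, 5, 1, 3, 5], [0, 1, 3, 0, 2, 0, 2, 3, 1], [0, 1, 3, 0, 3, 1, 2, 0, 2], [0, 1, 3, 1, 0, 3, 6, 0, 6], [0, 1, 3, 1, 6, 0, 6, 0, 3], [0, 1, 3, 2, 6, 4, 0, 3, 6], [0, 1, 3, 6, 0, 3, 4, 2, 6], [0, 1, 3, 6, 0, 3, 4, 6, 2], [0, 1, 5, 0, 1, 5, 0, 5, 1], [0, 1, 5, 3, 5, 0, 1, 7, 2], [0, 1, 5, 7, 3, 0, 5, 7, 3], [0, 1, 6, 2, 0, 7, 6, 7, 1], [0, 1, 7, 1, 6, 7, 0, 2, 6], [0, 1, 7, 1, 6, 7, 0, 6, 2], [0, 1, 7, 2, 0, 5, 1, 3, 5], [0, 1, 7, 8, 7, 0, 5, 8, 5], [0, 2, 0, 2, 8, 6, 0, 6, 8], [0, 2, 0, 7, 0, 6, 0, 6, 7], [0, 2, 1, 3, 5, 0, 2, 3, 5], [0, 2, 3, 0, 2,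 3, 0, 2, 3], [0, 2, 6, 7, 6, 0, 7, 0, 7], [0, 2, 7, 0, 7, 6, 0, 6, 7], [0, 2, 8, 0, 6, 0, 6, 8, 2], [0, 6, 2, 7, 6, 0, 7, 0, 7], [1, 2, 6, 1, 7, 1, 6, 1, 7], [1, 2, 6, 1, 7, 6, 1, 6, 7], [1, 2, 7, 6, 7, 1, 6, 1, 6], [1, 6, 1, 6, 1, 7, 2, 6, 7], [2, 6, 7, 8, 6, 8, 6, 8, 7], [2, 8, 2, 8, 6, 7, 6, 7, 8], [0, 1, 0, 1, 0, 1, 8, 0, 8, 1], [0, 1, 0, 1, 2, 0, 1, 0, 1, 2], [0, 1, 0, 1, 2, 0, 6, 2, 0, 6], [0, 1, 0, 1, 2, 1, 0, 1, 0, 2], [0, 1, 0, 1, 2, 7, 1, 7, 1, 2], [0, 1, 0, 1, 2, 7, 2, 1, 7, 1], [0, 1, 0, 1, 6, 0, 1, 0, 1, 6], [0, 1, 0, 1, 6, 0, 2, 6, 0, 2], [0, 1, 0, 1, 6, 0, 6, 2, 0, 2], [0, 1, 0, 1, 6, 1, 0, 1, 0, 6], [0, 1, 0, 1, 6, 1, 7, 1, 7, 6], [0, 1, 0, 1, 6, 7, 1, 7, 1, 6], [0, 1, 0, 1,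 7, 2, 1, 7, 1, 2], [0, 1, 0, 6, 0, 1, 0, 6, 1, 6], [0, 1, 0, 8, 2, 7, 2, 1, 7, 8], [0, 1, 2, 0, 2, 0, 6, 0, 6, 1], [0, 1, 2, 0, 6, 0, 6, 0, 2, 1], [0, 1, 2, 6, 0, 2, 1, 6, 1, 6], [0, 1, 2, 6, 8, 0, 8, 6, 2, 1], [0, 1, 6, 0, 2, 0, 2, 0, 6, 1], [0, 1, 6, 0, 7, 0, 6, 0, 7, 1], [0, 1, 6, 2, 0, 2, 1, 6, 1, 6], [0, 1, 6, 2, 0, 2, 6, 8, 1, 8], [0, 1, 6, 2, 8, 0, 8, 2, 6, 1], [0, 1, 6, 7, 0, 7, 6, 0, 7, 1], [0, 1, 6, 7, 0, 7, 6, 1, 0, 7], [0, 1, 6, 8, 6, 8, 6, 1, 0, 8], [0, 1, 7, 0, 1, 7, 0, 2, 7, 2], [0, 1, 7, 1, 0, 1, 7, 1, 0, 7], [0, 1, 7, 1, 0, 6, 0, 7, 0, 6], [0, 1, 7, 1, 0, 6, 7, 0, 7, 6], [0, 1, 7, 1, 6, 0, 7, 0, 6, 7], [0, 1, 7, 1, 7, 1, 0, 8, 1, 8], [0, 1, 7, 6, 0, 7, 0, 6, 7, 1], [0, 1, 7,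 8, 0, 1, 8, 7, 0, 7], [0, 1, 8, 1, 0, 6, 8, 6, 8, 6], [0, 1, 8, 2, 6, 0, 2, 6, 8, 1], [0, 2, 0, 2, 6, 7, 0, 6, 0, 7], [0, 2, 0, 2, 7, 0, 6, 0, 7, 6], [0, 2, 0, 6, 7, 0, 6, 0, 2, 7], [0, 2, 0, 6, 7, 2, 0, 6, 0, 7], [0, 2, 0, 7, 8, 2, 0, 2, 8, 7], [0, 2, 1, 7, 1, 7, 6, 0, 2, 6], [0, 2, 1, 7, 1, 7, 6, 0, 6, 2], [0, 2, 6, 0, 2, 7, 1, 7, 1, 6], [0, 2, 6, 0, 6, 1, 7, 1, 2, 7], [0, 2, 6, 0, 6, 2, 1, 7, 1, 7], [0, 2, 6, 0, 7, 1, 7, 1, 6, 2], [0, 2, 6, 0, 7, 2, 1, 7, 1, 6], [0, 2, 6, 7, 0, 6, 7, 0, 2, 7], [0, 2, 7, 0, 6, 2, 7, 0, 6, 7], [0, 2, 7, 0, 6, 7, 2, 0, 6, 7], [0, 2, 8, 7, 8, 2, 0, 7, 8, 7], [0, 6, 1, 6, 1, 6, 0, 7, 1, 7], [0, 6, 1, 7, 0, 7, 1, 6, 0, 7], [0, 6, 7, 0, 6, 7, 6, 0, 7, 6], [1, 2,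 1, 2, 1, 2, 1, 6, 2, 6], [1, 2, 1, 2, 1, 2, 8, 1, 8, 2], [1, 2, 1, 2, 7, 1, 2, 1, 7, 2], [1, 2, 1, 6, 1, 2, 7, 1, 6, 7], [1, 2, 1, 6, 1, 7, 2, 1, 6, 7], [1, 2, 1, 6, 8, 2, 1, 2, 8, 6], [1, 2, 1, 7, 1, 2, 8, 1, 8, 7], [1, 2, 6, 1, 2, 6, 7, 1, 6, 7], [1, 2, 6, 1, 7, 6, 1, 2, 7, 6], [1, 2, 6, 1, 7, 6, 1, 7, 6, 2], [1, 2, 6, 2, 1, 6, 8, 1, 8, 6], [1, 2, 8, 7, 2, 7, 8, 2, 1, 8], [1, 6, 1, 6, 1, 8, 6, 8, 6, 8], [1, 6, 7, 1, 7, 1, 6, 7, 1, 7], [2, 6, 8, 2, 8, 6, 2, 8, 6, 8], [3, 5, 3, 5, 3, 5, 3, 5, 3, 5], [3, 6, 3, 6, 3, 6, 3, 6, 3, 6], [3, 7, 3, 7, 3, 7, 3, 7, 3, 7], [0, 1, 0, 1, 2, 0, 7, 6, 7, 0, 6], [0, 1, 0, 1, 6, 0, 7, 6, 7, 0, 2], [0, 1, 0, 1, 7, 0, 2, 6, 0, 7, 6], [0, 1, 0, 1, 7, 0, 6, 2,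 0, 7, 6], [0, 1, 0, 1, 7, 6, 1, 7, 1, 6, 2], [0, 1, 0, 2, 1, 2, 6, 1, 2, 1, 6], [5, 7, 5, 7, 5, 7, 5, 7, 5, 7, 5, 7]]
  subs := [[0], [1], [2], [6], [7], [8]]

/-- Chains of the traced words. -/
noncomputable def closers : List ℕ := []

end CfsgLib.Recog.SporBound.McLCentU
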